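import Cfsg.Agent.Lib.Cls.Ito
import Cfsg.Agent.Lib.Char.Kazarin
import Cfsg.Agent.Lib.Core.Zipper
import Cfsg.Agent.Lib.Core.MinNormal
import Cfsg.Agent.Lib.Transfer.Camina
import Cfsg.Agent.Lib.Coprime.FTFinal
import Cfsg.Agent.Lib.Coprime.PiClosed

/-!
# The prime graph on class sizes: tools
-/

set_option autoImplicit false
set_option linter.unusedSectionVars false

namespace Cfsg.Agent.CG

open Subgroup Cfsg.Agent.OO Cfsg.Agent.Coprime Cfsg.Agent.Cls
open scoped Pointwise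

universe u

variable {G Γ : Type u} [Group G] [Finite G] [Group Γ] [Finite Γ] {p q : ℕ} {σ τ : Set ℕ}
  {N : Subgroup Γ} {f : G →* Γ}

omit [Finite G] in
/-- if all elements of a coset of a transitive subgroup fix a point, they fix exactly one -/
theorem coset_fix {L : Subgroup G} [Finite L] {Ω : Type*} [MulAction G Ω]
    (tr : ∀ a b : Ω, ∃ l ∈ L, l • a = b) {y : G} (h : ∀ l ∈ L, ∃ a : Ω, (y * l) • a = a) {a b : Ω}
    (ha : y • a = a) (hb : y • b = b) : a = b := by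
  choose k k1 k2 using tr
  let T := {z : L × Ω // (y * z.1) • z.2 = z.2}
  let j : T → L := fun z => ⟨(k z.1.2 (y⁻¹ • z.1.2))⁻¹ * z.1.1 * k a z.1.2,
    mul_mem (mul_mem (inv_mem (k1 _ _)) z.1.1.2) (k1 _ _)⟩
  have h1 : ∀ z : T, (j z : G) • a = z.1.2 := fun z => by
    simp only [j, mul_smul, k2, inv_smul_eq_iff]
    rw [eq_inv_smul_iff, ← mul_smul, z.2]
  have h2 : Function.Injective j := fun z w e => by
    have e1 : z.1.2 = w.1.2 := by rw [← h1, ← h1, e]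
    have e2 := congrArg Subtype.val e
    simp only [j, e1, mul_left_inj, mul_right_inj] at e2
    exact Subtype.ext (Prod.ext (Subtype.ext e2) e1)
  have := Finite.of_injective j h2
  have h3 : Function.Surjective fun z : T => z.1.1 := fun l =>
    let ⟨c, hc⟩ := h l l.2; ⟨⟨(l, c), hc⟩, rfl⟩
  exact congrArg (fun z : T => z.1.2) ((h3.bijective_of_nat_card_le
    (Nat.card_le_card_of_injective j h2)).1 (a₁ := ⟨(1, a), by simpa⟩) (a₂ := ⟨(1, b), by simpa⟩) rfl)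

/-- the Sylow `p`-subgroups are central in their normalizers -/
def NT (p : ℕ) (G : Type u) [Group G] : Prop :=
  ∀ P : Sylow p G, 𝐍((P : Subgroup G)) ≤ 𝐂((P : Subgroup G))

/-- the primes that divide no class size divisible by `p` -/
def Na (p : ℕ) (G : Type u) [Group G] : Set ℕ := {r | ∀ x : G, p ∣ 𝐂[x].index → ¬ r ∣ 𝐂[x].index}

theorem half [Fact p.Prime] (h : ¬ NT p G) : 2 * {x : G | ¬ p ∣ 𝐂[x].index}.ncard ≤ Nat.card G := by
  obtain ⟨P, hP⟩ := not_forall.1 h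
  have h2 := card_mul_relIndex (cent_le_norm (P : Subgroup G))
  have h3 : 𝐂((P : Subgroup G)).relIndex 𝐍((P : Subgroup G)) ≠ 1 := mt relIndex_eq_one.1 hP
  have h4 : 𝐂((P : Subgroup G)).relIndex 𝐍((P : Subgroup G)) ≠ 0 := index_ne_zero_of_finite
  have h6 : _ ≤ 𝐍((P : Subgroup G)).index * _ := ncard_not_dvd_index_le P
  rw [← 𝐍((P : Subgroup G)).index_mul_card, ← h2]
  obtain ⟨k, hk⟩ : ∃ k, 𝐂((P : Subgroup G)).relIndex 𝐍((P : Subgroup G)) = k + 2 :=
    ⟨_, (Nat.sub_add_cancel (by omega)).symm⟩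
  rw [hk]
  nlinarith

theorem ito (hp : p.Prime) (hq : q.Prime) (h : q ∈ Na p G) : NT p G ∨ NT q G := by
  have := Fact.mk hp
  have := Fact.mk hq
  by_contra! e
  have h1 := half e.1
  have h2 := half e.2
  have h5 := Set.ncard_union_add_ncard_inter {x : G | ¬ p ∣ 𝐂[x].index} {x : G | ¬ q ∣ 𝐂[x].index}
  have h6 := (Set.ncard_pos (s := {x : G | ¬ p ∣ 𝐂[x].index} ∩ {x : G | ¬ q ∣ 𝐂[x].index})).2
    ⟨1, by simp [hp.one_lt.ne', hq.one_lt.ne']⟩
  have h7 : {x : G | ¬ p ∣ 𝐂[x].index} ∪ {x : G | ¬ q ∣ 𝐂[x].index} = Set.univ :=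
    Set.eq_univ_of_forall fun x => or_iff_not_imp_left.2 fun e => h x (not_not.1 e)
  rw [h7, Set.ncard_univ] at h5
  omega

/-- the coset of an element that commutes with a derangement contains a derangement -/
theorem NT.coset [Fact p.Prime] (h : NT p G) {L : Subgroup G} [L.Normal] (hL : ¬ p ∣ L.index)
    {x y : G} (hx : p ∣ 𝐂[x].index) (hy : y ∈ 𝐂[x]) : ∃ l ∈ L, p ∣ 𝐂[y * l].index := by
  by_contra! e
  have k : ∀ l ∈ L, ∃ P : Sylow p G, (y * l) • P = P := fun l hl =>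
    (exists_sylow_le_of_not_dvd_index (e l hl)).imp fun P hP =>
      Sylow.smul_eq_iff_mem_normalizer.2 (cent_le_norm _ (le_cent1_iff.1 hP))
  obtain ⟨P, hP⟩ := k 1 (one_mem L)
  rw [mul_one] at hP
  refine not_dvd_index_of_sylow_le (le_cent1_iff.2 (h P (Sylow.smul_eq_iff_mem_normalizer.1
    (coset_fix (L := L) (fun a b => ?_) k ?_ hP)))) hx
  · obtain ⟨g, rfl⟩ := MulAction.exists_smul_eq G a b
    obtain ⟨Q, hQ⟩ := exists_sylow_le_of_not_dvd_index hL
    obtain ⟨c, rfl⟩ := MulAction.exists_smul_eq G Q a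
    have h1 : ((c • Q : Sylow p G) : Subgroup G) ≤ L := fun z hz => by
      simpa [mul_assoc] using (inferInstance : L.Normal).conj_mem _ (hQ (mem_smul_sylow_iff.1 hz)) c
    have h2 := (c • Q).normalizer_sup_eq_top' h1
    rw [sup_comm] at h2
    obtain ⟨n, hn, l, hl, rfl⟩ := (mem_sup_norm_left (le_normalizer_of_normal)).1 (h2.ge (mem_top g))
    exact ⟨n, hn, by rw [mul_smul n l, Sylow.smul_eq_iff_mem_normalizer.2 hl]⟩
  · rw [← mul_smul, mem_cent1.1 hy, mul_smul, hP]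

omit [Finite G] in
theorem cop (cov : ∀ r : ℕ, r.Prime → r ∈ σ ∨ r ∈ τ) {a b : ℕ} (ha : IsPiNum σᶜ a)
    (hb : IsPiNum τᶜ b) : a.Coprime b := Nat.Coprime.symm (Nat.coprime_of_dvd fun r hr h1 h2 =>
  (cov r hr).elim (ha r hr h2) (hb r hr h1))

theorem trans {g w : G} (h : 𝐂[w].index.Coprime 𝐂[g].index) (k : G) :
    ∃ c ∈ 𝐂[w], k * g * k⁻¹ = c * g * c⁻¹ := by
  obtain ⟨a, ha, b, hb, rfl⟩ := Transfer.exists_mul_of_coprime_index h k
  exact ⟨a, ha, (show _ = a * (b * g * b⁻¹) * a⁻¹ by group).trans (by rw [mem_cent1_iff_conj.1 hb])⟩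

theorem two_dvd {t w : G} (w2 : w * w ≠ 1) (t2 : t * t = 1) (h : t * w * t⁻¹ = w⁻¹) :
    2 ∣ 𝐂[w].index := by
  by_contra e
  have h1 : t ∈ 𝐍(𝐂[w]) := mem_norm_of_conj_le (by rw [← cent1_conj, h, cent1_inv])
  have h2 := le_of_le_normalizer_of_coprime' (zpowers_le.2 h1) le_rfl (by
    rw [Nat.card_zpowers]
    exact ((Nat.prime_two.coprime_iff_not_dvd.2 e).coprime_dvd_left (orderOf_dvd_of_pow_eq_one
      (by rwa [sq]))).coprime_dvd_right (relIndex_dvd_index_of_le (le_norm_self _)))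
  rw [mem_cent1_iff_conj.1 (h2 (mem_zpowers t)), eq_inv_iff_mul_eq_one] at h
  exact w2 h

/-- `N` is the unique minimal normal subgroup, and it is not solvable -/
structure Mono (N : Subgroup Γ) : Prop where
  normal : N.Normal
  ns : ¬ Group.IsSolvable N
  le : ∀ M : Subgroup Γ, M.Normal → M ≠ ⊥ → N ≤ M

theorem exists_mono (h : ¬ Group.IsSolvable G) : ∃ (Γ : Type u) (_ : Group Γ) (_ : Finite Γ)
    (f : G →* Γ) (N : Subgroup Γ), Function.Surjective f ∧ Mono N := by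
  revert h
  refine Core.induction_on_card (P := fun G _ _ => ¬ Group.IsSolvable G → ∃ (Γ : Type u) (_ : Group Γ)
    (_ : Finite Γ) (f : G →* Γ) (N : Subgroup Γ), Function.Surjective f ∧ Mono N) ?_ G
  intro G _ _ ih h
  by_cases e : ∃ (M : Subgroup G) (_ : M.Normal), M ≠ ⊥ ∧ ¬ Group.IsSolvable (G ⧸ M)
  · obtain ⟨M, _, h0, h1⟩ := e
    obtain ⟨Γ, _, _, f, N, h2, h3⟩ := ih _ (Core.card_quotient_lt h0) h1
    exact ⟨Γ, _, ‹_›, f.comp (QuotientGroup.mk' M), N, h2.comp (QuotientGroup.mk'_surjective M), h3⟩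
  push Not at e
  have : Nontrivial G := not_subsingleton_iff_nontrivial.1 fun _ => h inferInstance
  obtain ⟨N, hN⟩ := Core.exists_isMinNormal (G := G)
  have := hN.normal
  have h1 : ¬ Group.IsSolvable N := fun h1 =>
    h ((Group.isSolvable_iff_subgroup_quotient N).2 ⟨h1, e N this hN.ne_bot⟩)
  refine ⟨G, _, ‹_›, .id G, N, Function.surjective_id, this, h1, fun M hM h0 =>
    (hN.inf_eq_bot_or_le M).resolve_left fun h2 => h1 ?_⟩
  have := e M hM h0
  refine Group.isSolvable_of_isSolvable_injective (f := (QuotientGroup.mk' M).comp N.subtype)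
    ((injective_iff_map_eq_one _).2 fun a ha => Subtype.ext (mem_bot.1 (h2 ▸ ⟨a.2, ?_⟩)))
  exact (QuotientGroup.eq_one_iff _).1 ha

namespace Mono

variable (h : Mono N) {c w : Γ}
include h

omit [Finite Γ] in
theorem eq_bot {M : Subgroup Γ} [M.Normal] (hs : Group.IsSolvable M) : M = ⊥ := by_contra fun e =>
  h.ns (Group.isSolvable_of_isSolvable_injective (inclusion_injective (h.le M ‹_› e)))

omit [Finite Γ] in
theorem cent (hw : N ≤ 𝐂[w]) : w = 1 := by_contra fun e => by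
  have := h.normal
  have h1 := h.le 𝐂(N) inferInstance fun e' => e (mem_bot.1 (e' ▸ le_cent1_iff.1 hw))
  exact h.ns (Group.isSolvable_of_comm fun a b => Subtype.ext (mem_cent_iff.1 (h1 b.2) a a.2))

omit [Finite Γ] in
theorem eq_one (c1 : c ≠ 1) (hc : ∀ g, g * c * g⁻¹ ∈ 𝐂[w]) : w = 1 :=
  h.cent ((h.le (normalClosure {c}) inferInstance fun e =>
    c1 (mem_bot.1 (e ▸ subset_normalClosure rfl))).trans ((closure_le _).2 fun x hx => by
      obtain ⟨_, rfl, e⟩ := Group.mem_conjugatesOfSet_iff.1 hx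
      obtain ⟨g, rfl⟩ := isConj_iff.1 e
      exact hc g))

theorem of_coprime (hw : (♯N).Coprime 𝐂[w].index) : w = 1 := by
  have := h.normal
  exact h.cent (relIndex_eq_one.1 (Nat.eq_one_of_dvd_coprimes hw (relIndex_dvd_card _ _)
    (relIndex_dvd_index_of_normal' _ _)))

theorem not_comm (c1 : c ≠ 1) (hc : 𝐂[w].index.Coprime 𝐂[c].index) (e : c ∈ 𝐂[w]) : w = 1 :=
  h.eq_one c1 fun g => by
    obtain ⟨a, ha, e'⟩ := trans hc g
    exact e' ▸ mul_mem (mul_mem ha e) (inv_mem ha)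

theorem exists_dvd (hp : p.Prime) (hd : p ∣ Nat.card Γ) : ∃ x : Γ, p ∣ 𝐂[x].index := by
  have := Fact.mk hp
  by_contra! e
  obtain ⟨P⟩ : Nonempty (Sylow p Γ) := inferInstance
  have := (Transfer.sylow_normal_of_not_dvd_index (fun x _ => e x) P).1
  exact P.ne_bot_of_dvd_card hd (h.eq_bot (isSolvable_of_isPGroup P.2))

theorem not_NT (hf : Function.Surjective f) (hp : p.Prime) (hd : p ∣ ♯N) : ¬ NT p G := fun e => by
  have := Fact.mk hp
  obtain ⟨P⟩ : Nonempty (Sylow p G) := inferInstance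
  obtain ⟨M, _, h1, h2⟩ := Transfer.hasNormalPComplement_iff_exists_normal.1
    (Transfer.hasNormalPComplement_of_surjective f hf
      (Transfer.burnside_of_normalizer_le_centralizer P (e P)))
  by_cases h0 : M = ⊥
  · subst h0
    have := isSolvable_of_isPGroup (h2.of_equiv QuotientGroup.quotientBot)
    exact h.ns inferInstance
  · exact hp.one_lt.ne' (Nat.eq_one_of_dvd_coprimes h1 (hd.trans (card_dvd (h.le M ‹_› h0))) dvd_rfl)

/-- involutions invert elements of odd prime order -/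
theorem false (cov : ∀ r : ℕ, r.Prime → r ∈ σ ∨ r ∈ τ)
    (hσ : ∀ w : Γ, (orderOf w).Prime → orderOf w ∈ σ → IsPiNum σᶜ 𝐂[w].index)
    (hτ : ∀ w : Γ, (orderOf w).Prime → orderOf w ∈ τ → IsPiNum τᶜ 𝐂[w].index) : False := by
  wlog h2 : 2 ∈ σ generalizing σ τ
  · exact this (fun r hr => (cov r hr).symm) hτ hσ ((cov 2 Nat.prime_two).resolve_left h2)
  have := Fact.mk Nat.prime_two
  obtain ⟨t, ht⟩ := exists_prime_orderOf_dvd_card' (G := Γ) 2 (by_contra fun e => by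
    have := ft.solvable_of_not_dvd e
    exact h.ns inferInstance)
  have t1 : t ≠ 1 := fun e => by simp [e] at ht
  have t2 : t * t = 1 := by rw [← sq, ← ht, pow_orderOf_eq_one]
  obtain ⟨x, x1, ox, e⟩ := Core.exists_inverted_odd_of_not_mem_pCore_two t2 fun e =>
    t1 (mem_bot.1 (h.eq_bot (isSolvable_of_isPGroup (Core.isPGroup_pCore (G := Γ) 2)) ▸ e))
  obtain ⟨w, hx, hw⟩ := exists_prime_order_mem (zpowers_ne_bot.2 x1)
  have o1 : Odd (orderOf w) := ox.of_dvd_nat (orderOf_dvd_of_mem_zpowers hx)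
  have e1 : t * w * t⁻¹ = w⁻¹ := by
    obtain ⟨k, rfl⟩ := mem_zpowers_iff.1 hx
    rw [← conj_zpow, e, inv_zpow]
  have w1 : w ≠ 1 := fun e => by simp [e] at hw; exact absurd hw (by norm_num)
  have w2 : w * w ≠ 1 := fun e => o1.not_two_dvd_nat
    ((Nat.prime_dvd_prime_iff_eq hw Nat.prime_two).1 (orderOf_dvd_of_pow_eq_one (by rwa [sq])) ▸ dvd_rfl)
  rcases cov _ hw with e2 | e2
  · exact hσ w hw e2 2 Nat.prime_two (two_dvd w2 t2 e1) h2
  have h3 := trans (cop cov (hσ t (ht ▸ Nat.prime_two) (ht ▸ h2)) (hτ w hw e2)).symm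
  have h4 : ∀ k : Γ, k * t * k⁻¹ * w * (k * t * k⁻¹)⁻¹ = w⁻¹ := fun k => by
    obtain ⟨c, hc, e3⟩ := h3 k
    rw [e3, show c * t * c⁻¹ * w * (c * t * c⁻¹)⁻¹ = c * (t * (c⁻¹ * w * c⁻¹⁻¹) * t⁻¹) * c⁻¹ by group,
      mem_cent1_iff_conj.1 (inv_mem hc), e1, ← conj_inv, mem_cent1_iff_conj.1 hc]
  obtain ⟨g, hg⟩ : ∃ g : Γ, g * t * g⁻¹ * t⁻¹ ≠ 1 := by
    by_contra! e
    exact t1 (h.cent fun g _ => mem_cent1_iff_conj.2 (mul_inv_eq_one.1 (e g)))
  refine w1 (h.eq_one hg fun k => ?_)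
  rw [show k * (g * t * g⁻¹ * t⁻¹) * k⁻¹ = (k * g * t * (k * g)⁻¹) * (k * t * k⁻¹)⁻¹ by group,
    mem_cent1_iff_conj]
  have h5 := h4 k
  have h6 := h4 (k * g)
  generalize k * t * k⁻¹ = a at h5
  generalize k * g * t * (k * g)⁻¹ = b at h6
  have h7 : a⁻¹ * w * a = w⁻¹ :=
    (show _ = a⁻¹ * (w⁻¹)⁻¹ * a by group).trans (by rw [← h5]; group; rw [zpow_neg_one, ← h5]; group)
  rw [show b * a⁻¹ * w * (b * a⁻¹)⁻¹ = b * (a⁻¹ * w * a) * b⁻¹ by group, h7, ← conj_inv, h6, inv_inv]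

end Mono

end Cfsg.Agent.CG
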