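import Cfsg.Agent.Lib.CG.Basic

/-!
# The prime graph on class sizes of a non-solvable group has diameter at most two
-/

set_option autoImplicit false

namespace Cfsg.Agent.CG

open Subgroup Cfsg.Agent.OO Cfsg.Agent.Coprime Cfsg.Agent.Cls
open scoped Pointwise

universe u

variable {G Γ : Type u} [Group G] [Finite G] [Group Γ] [Finite Γ] {p q : ℕ} {σ τ : Set ℕ}
  {N : Subgroup Γ} {f : G →* Γ}

omit [Finite G] in
theorem Na.pi {x : G} (hx : p ∣ 𝐂[x].index) : IsPiNum (Na p G)ᶜ 𝐂[x].index :=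
  fun _ _ h e => e x hx h

omit [Finite G] [Finite Γ] in
theorem lift (hf : Function.Surjective f) {x : Γ} (hx : p ∣ 𝐂[x].index) :
    IsPiNum (Na p G)ᶜ 𝐂[x].index := by
  obtain ⟨y, rfl⟩ := hf x
  exact (Na.pi (hx.trans (index_centralizer_map_dvd hf y))).of_dvd (index_centralizer_map_dvd hf y)

theorem NT.image (h : NT p G) (hp : p.Prime) (v : ∃ x : G, p ∣ 𝐂[x].index)
    (hf : Function.Surjective f) (hd : ¬ p ∣ Nat.card Γ) {w : Γ} (hw : (orderOf w).Prime)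
    (hr : orderOf w ∈ Na p G) : IsPiNum (Na p G)ᶜ 𝐂[w].index := by
  have := Fact.mk hp
  have := Fact.mk hw
  obtain ⟨x, hx⟩ := v
  obtain ⟨R, hR⟩ := exists_sylow_le_of_not_dvd_index (hr x hx)
  obtain ⟨g, y, hy, e⟩ := exists_conj_mem_sylow (R.mapSurjective hf) (x := w) ⟨1, (pow_one _).symm⟩
  obtain ⟨l, hl, e1⟩ := h.coset (L := f.ker) (by
    rwa [index_ker, f.range_eq_top_of_surjective hf, card_top]) hx (hR hy)
  refine (Na.pi e1).of_dvd (.trans ?_ (index_centralizer_map_dvd hf _))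
  rw [map_mul, MonoidHom.mem_ker.1 hl, mul_one, e, ← index_centralizer_conj w g⁻¹, inv_inv]

theorem NT.exists_adj (h : NT p G) (hp : p.Prime) (v : ∃ x : G, p ∣ 𝐂[x].index)
    (hf : Function.Surjective f) (m : Mono N) : ∃ r : ℕ, r.Prime ∧ r ∣ ♯N ∧ r ∉ Na p G := by
  by_contra! e
  have k : ∀ w : Γ, IsPiNum (Na p G)ᶜ 𝐂[w].index → w = 1 := fun w hw =>
    m.of_coprime (IsPiNum.coprime e hw)
  by_cases hd : p ∣ Nat.card Γ
  · obtain ⟨x, hx⟩ := m.exists_dvd hp hd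
    rw [k x (lift hf hx), cent1_one, index_top] at hx
    exact hp.one_lt.ne' (Nat.dvd_one.1 hx)
  obtain ⟨w, hw, h1⟩ := exists_prime_order_mem (H := N) fun e' => m.ns (e' ▸ inferInstance)
  rw [k w (h.image hp v hf hd h1 (e _ h1 (orderOf_dvd_card hw))), orderOf_one] at h1
  exact Nat.not_prime_one h1

/-- the `q`-elements are as central as the derangements on the Sylow `p`-subgroups -/
theorem NT.elt (h : NT p G) (h' : NT q G) (hp : p.Prime) (hq : q.Prime) (pq : q ∈ Na p G)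
    (v : ∃ x : G, p ∣ 𝐂[x].index) (ne : p ≠ q) {u : G} (hu : ∃ k, orderOf u = q ^ k) :
    IsPiNum (Na p G)ᶜ 𝐂[u].index := by
  have := Fact.mk hp
  have := Fact.mk hq
  obtain ⟨x, hx⟩ := v
  obtain ⟨Q⟩ : Nonempty (Sylow q G) := inferInstance
  obtain ⟨K, _, h1, h2⟩ := Transfer.hasNormalPComplement_iff_exists_normal.1
    (Transfer.burnside_of_normalizer_le_centralizer Q (h' Q))
  obtain ⟨l, hl, e⟩ := h.coset (L := K) (fun e => by
    obtain ⟨k, hk⟩ := h2.exists_card_eq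
    exact ne ((Nat.prime_dvd_prime_iff_eq hp hq).1 (hp.dvd_of_dvd_pow (e.trans hk.dvd)))) hx (one_mem _)
  rw [one_mul] at e
  obtain ⟨R, hR⟩ := exists_sylow_le_of_not_dvd_index (pq l e)
  obtain ⟨g, hg⟩ := exists_conj_mem_sylow R hu
  obtain ⟨k, hk⟩ := hu
  have h3 := centralizer_single_mul (x := l) (y := g⁻¹ * u * g) (mem_cent1.1 (hR hg)).symm (by
    rw [← inv_inv g, inv_inv g⁻¹, orderOf_conj, hk]
    exact (h1.coprime_dvd_left (orderOf_dvd_card hl)).pow_right k)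
  refine (Na.pi (e.trans (index_dvd_of_le (h3.le.trans inf_le_left)))).of_dvd
    (.trans ?_ (index_dvd_of_le (h3.le.trans inf_le_right)))
  rw [← index_centralizer_conj u g⁻¹, inv_inv]

theorem Mono.mixed (m : Mono N) (hp : p.Prime) (hd : p ∣ Nat.card Γ) (pτ : p ∈ τ)
    (hτ : ∀ w : Γ, (orderOf w).Prime → orderOf w ∈ τ → IsPiNum τᶜ 𝐂[w].index)
    (hσ : ∀ x : Γ, p ∣ 𝐂[x].index → IsPiNum τ 𝐂[x].index) : False := by
  have := Fact.mk hp
  have ne1 : ∀ w : Γ, (orderOf w).Prime → w ≠ 1 := fun w hw e => by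
    rw [e, orderOf_one] at hw; exact Nat.not_prime_one hw
  have k1 : ∀ g : Γ, g ≠ 1 → IsPiNum τ 𝐂[g].index → PiGrp τᶜ 𝐂[g] := fun g g1 hg r hr e e' => by
    obtain ⟨w, hw, rfl⟩ := cauchy hr e
    exact g1 (m.not_comm (ne1 w hr) (hg.coprime (hτ w hr e')) hw)
  have k2 : ∀ g : Γ, g ≠ 1 → IsPiNum τ 𝐂[g].index → p ∣ 𝐂[g].index := fun g g1 hg =>
    (hp.dvd_mul.1 (𝐂[g].card_mul_index ▸ hd)).resolve_left fun e => k1 g g1 hg p hp e pτ
  have k3 : ∀ g : Γ, g ≠ 1 → IsPiNum τ 𝐂[g].index → ♯𝐂[g] = partn τᶜ (Nat.card Γ) := fun g g1 hg =>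
    (partn_eq_of_mul (k1 g g1 hg) hg.compl_compl Nat.card_pos.ne' 𝐂[g].card_mul_index).symm
  have k4 : ∀ z : Γ, (orderOf z).Prime → IsPiNum τ 𝐂[z].index → ∀ y ∈ 𝐂[z],
      (orderOf z).Coprime (orderOf y) → 𝐂[z] ≤ 𝐂[y] := fun z hz h y hy c => by
    have h1 := centralizer_single_mul (mem_cent1.1 hy).symm c
    have h2 := (k2 z (ne1 z hz) h).trans (index_dvd_of_le (h1.le.trans inf_le_left))
    exact (eq_of_le_of_card_le (h1.le.trans inf_le_left) (by
      rw [k3 z (ne1 z hz) h, k3 _ (fun e => hp.one_lt.ne' (by simpa [e] using h2))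
        (hσ _ h2)])).ge.trans (h1.le.trans inf_le_right)
  obtain ⟨x, hx⟩ := m.exists_dvd hp hd
  obtain ⟨z, hz, oz⟩ := exists_prime_order_mem (H := zpowers x)
    (zpowers_ne_bot.2 fun e => hp.one_lt.ne' (by simpa [e] using hx))
  have h1 := (hσ x hx).of_dvd (index_dvd_of_le (cent1_le_of_mem_zpowers hz))
  by_cases e : ∃ s : ℕ, s.Prime ∧ s ∣ ♯𝐂[z] ∧ s ≠ orderOf z
  · obtain ⟨_, hs, e, ne⟩ := e
    obtain ⟨y, hy, rfl⟩ := cauchy hs e
    have h2 := k4 z oz h1 y hy ((Nat.coprime_primes oz hs).2 ne.symm)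
    have h3 := h1.of_dvd (index_dvd_of_le h2)
    refine m.false (σ := τᶜ) (fun r _ => em' _) (fun w hw e => ?_) hτ
    have := Fact.mk hw
    have k : ∀ z : Γ, (orderOf z).Prime → IsPiNum τ 𝐂[z].index → orderOf z ≠ orderOf w →
        IsPiNum τᶜᶜ 𝐂[w].index := fun z oz h1 ne => by
      obtain ⟨R, hR⟩ := exists_sylow_le_of_not_dvd_index (h1.not_dvd hw e)
      obtain ⟨g, hg⟩ := exists_conj_mem_sylow R (x := w) ⟨1, (pow_one _).symm⟩
      have h4 := index_dvd_of_le (k4 z oz h1 _ (hR hg) (by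
        rw [← inv_inv g, inv_inv g⁻¹, orderOf_conj]; exact (Nat.coprime_primes oz hw).2 ne))
      rw [← inv_inv g, inv_inv g⁻¹, index_centralizer_conj] at h4
      exact (h1.of_dvd h4).compl_compl
    by_cases e' : orderOf z = orderOf w
    exacts [k y hs h3 (e' ▸ ne), k z oz h1 e']
  push Not at e
  obtain ⟨u, rfl⟩ := exists_prime_orderOf_dvd_card' p hd
  obtain ⟨k, hk⟩ := eq_pow_of_forall_prime_eq (p := orderOf z) (n := 𝐂[u].index)
    index_ne_zero_of_finite fun r hr h => e r hr ((hr.dvd_mul.1 (𝐂[z].card_mul_index ▸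
      h.trans (index_dvd_card _))).resolve_right (h1.not_dvd hr (hτ u hp pτ r hr h)))
  exact ne1 u hp (mem_bot.1 (m.eq_bot (Char.isSolvable_normalClosure_of_index_pow oz hk) ▸
    subset_normalClosure rfl))

theorem diam (hG : ¬ Group.IsSolvable G) (hp : p.Prime) (hq : q.Prime)
    (vp : ∃ x : G, p ∣ 𝐂[x].index) (vq : ∃ x : G, q ∣ 𝐂[x].index)
    (cov : ∀ r : ℕ, r.Prime → r ∈ Na p G ∨ r ∈ Na q G) : False := by
  obtain ⟨Γ, _, _, f, N, hf, m⟩ := exists_mono hG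
  have k0 : ∀ {p : ℕ}, (∃ x : G, p ∣ 𝐂[x].index) → p ∉ Na p G := fun ⟨x, hx⟩ e => e x hx hx
  have pq := (cov p hp).resolve_left (k0 vp)
  have qp := (cov q hq).resolve_right (k0 vq)
  have ne : p ≠ q := fun e => k0 vq (e ▸ pq)
  have k1 : ∀ {p q : ℕ}, p.Prime → q.Prime → (∃ x : G, p ∣ 𝐂[x].index) →
      (∀ r : ℕ, r.Prime → r ∈ Na p G ∨ r ∈ Na q G) → NT p G → NT q G := fun hp hq v cov h =>
    let ⟨r, hr, h1, h2⟩ := h.exists_adj hp v hf m
    (ito hq hr ((cov r hr).resolve_left h2)).resolve_right (m.not_NT hf hr h1)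
  have cov' := fun r hr => (cov r hr).symm
  obtain ⟨np, nq⟩ : NT p G ∧ NT q G :=
    (ito hp hq qp).elim (fun h => ⟨h, k1 hp hq vp cov h⟩) fun h => ⟨k1 hq hp vq cov' h, h⟩
  by_cases dp : p ∣ Nat.card Γ <;> by_cases dq : q ∣ Nat.card Γ
  · have := Fact.mk hp
    have := Fact.mk hq
    obtain ⟨P⟩ : Nonempty (Sylow p G) := inferInstance
    obtain ⟨K, _, h1, h2⟩ := Transfer.hasNormalPComplement_iff_exists_normal.1
      (Transfer.burnside_of_normalizer_le_centralizer (default : Sylow q G) (nq _))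
    have h3 : (P : Subgroup G) ≤ K := Core.le_of_coprime_card_index (by
      obtain ⟨k, hk⟩ := h2.exists_card_eq
      obtain ⟨j, hj⟩ := P.2.exists_card_eq
      exact hj ▸ (show K.index = _ from hk) ▸ Nat.coprime_pow_primes _ _ hp hq ne)
    obtain ⟨Q, hQ⟩ := exists_sylow_le_of_not_dvd_index (p := q) (H := 𝐍((P : Subgroup G))) fun e => by
      have h4 := relIndex_dvd_card 𝐍((P : Subgroup G)) K
      rw [← relIndex_sup_eq' (.inl le_normalizer_of_normal), show 𝐍((P : Subgroup G)) ⊔ K = ⊤ from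
        P.normalizer_sup_eq_top' h3, relIndex_top_right] at h4
      exact hq.one_lt.ne' (Nat.eq_one_of_dvd_coprimes h1 (e.trans h4) dvd_rfl)
    obtain ⟨_, ⟨u, hu, rfl⟩, u1⟩ := exists_mem_ne_one ((P.mapSurjective hf).ne_bot_of_dvd_card dp)
    obtain ⟨_, ⟨v, hv, rfl⟩, v1⟩ := exists_mem_ne_one ((Q.mapSurjective hf).ne_bot_of_dvd_card dq)
    refine u1 (m.not_comm v1 (cop cov' ((nq.elt np hq hp pq vq ne.symm
      (Core.exists_orderOf_eq_pow_of_mem P.2 hu)).of_dvd (index_centralizer_map_dvd hf u))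
      ((np.elt nq hp hq qp vp ne (Core.exists_orderOf_eq_pow_of_mem Q.2 hv)).of_dvd
        (index_centralizer_map_dvd hf v))) ?_)
    exact map_centralizer_single_le f u ⟨v, cent_le_cent1 hu (np P (hQ hv)), rfl⟩
  · exact m.mixed hp dp pq (fun w hw e => nq.image hq vq hf dq hw e) fun x hx r hr e =>
      (cov r hr).resolve_left (lift hf hx r hr e)
  · exact m.mixed hq dq qp (fun w hw e => np.image hp vp hf dp hw e) fun x hx r hr e =>
      (cov r hr).resolve_right (lift hf hx r hr e)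
  · exact m.false cov (fun w hw e => np.image hp vp hf dp hw e) fun w hw e =>
      nq.image hq vq hf dq hw e

end Cfsg.Agent.CG
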